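import Groth.Agent.CoeffField.Smooth
import Mathlib

/-!
# Formally smooth Artinian local algebras over fields are fields
-/

set_option autoImplicit false
set_option linter.style.haveILetI false

universe u v

namespace Groth.Agent.ArtSmooth

open IsLocalRing

/-- Over a perfect field. -/
theorem isField_of_perfectField (k : Type u) [Field k] [PerfectField k] (C : Type v) [CommRing C]
    [IsLocalRing C] [IsArtinianRing C] [Algebra k C] [Algebra.FormallySmooth k C] : IsField C := by
  classical
  rw [IsLocalRing.isField_iff_maximalIdeal_eq]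
  set n := maximalIdeal C with hn
  by_contra hne
  obtain ⟨N, hN⟩ : IsNilpotent n := (IsArtinianRing.isNilpotent_jacobson_bot (R := C)) |> fun h => by
    rwa [IsLocalRing.jacobson_eq_maximalIdeal _ bot_ne_top] at h
  let F := ResidueField C
  haveI hFs : Algebra.FormallySmooth k F := CoeffField.formallySmooth_of_perfectField k F
  let σ : F →ₐ[k] C := Algebra.FormallySmooth.lift (A := F) n ⟨N, hN⟩ (AlgHom.id k F : F →ₐ[k] C ⧸ n)
  have hσ : ∀ x, residue C (σ x) = x := fun x =>
    Algebra.FormallySmooth.mk_lift (A := F) n ⟨N, hN⟩ (AlgHom.id k F : F →ₐ[k] C ⧸ n) x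
  letI : Algebra F C := σ.toRingHom.toAlgebra
  obtain ⟨x, hxn, hx2⟩ : ∃ x ∈ n, x ∉ n ^ 2 := by
    by_contra h
    push Not at h
    refine hne (Submodule.eq_bot_of_le_smul_of_le_jacobson_bot n n (IsNoetherian.noetherian _) ?_
      (maximalIdeal_le_jacobson _))
    intro y hy
    rw [smul_eq_mul, ← sq]
    exact h y hy
  let p : Submodule F C := Submodule.span F {(1 : C)} ⊔ (n ^ 2).restrictScalars F
  have hxp : x ∉ p := by
    intro h
    obtain ⟨a, ha, b, hb, hab⟩ := Submodule.mem_sup.mp h
    obtain ⟨r, rfl⟩ := Submodule.mem_span_singleton.mp ha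
    have hr : residue C (r • (1 : C)) = r := by
      rw [Algebra.smul_def, mul_one]; exact hσ r
    have h1 : residue C (r • (1 : C)) = 0 := by
      rw [residue_eq_zero_iff, eq_sub_of_add_eq hab]
      exact sub_mem hxn (Ideal.pow_le_self two_ne_zero hb)
    rw [hr] at h1
    rw [h1, zero_smul, zero_add] at hab
    exact hx2 (hab ▸ hb)
  obtain ⟨lam, hlx, hlp⟩ := Submodule.exists_dual_map_eq_bot_of_notMem hxp inferInstance
  have hl : ∀ y ∈ p, lam y = 0 := fun y hy => by
    have := Submodule.mem_map_of_mem (f := lam) hy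
    rwa [hlp, Submodule.mem_bot] at this
  have hl1 : lam 1 = 0 := hl 1 (Submodule.mem_sup_left (Submodule.subset_span rfl))
  have hlσ : ∀ (r : F) (y : C), lam (σ r * y) = r * lam y := fun r y => by
    rw [show σ r * y = r • y from (Algebra.smul_def r y).symm, map_smul, smul_eq_mul]
  have hmul : ∀ y z, lam (y * z) = residue C y * lam z + residue C z * lam y := by
    intro y z
    have hy : ∀ w, w - σ (residue C w) ∈ n := fun w => by
      rw [hn, ← residue_eq_zero_iff, map_sub, hσ, sub_self]
    have h0 := hl _ (Submodule.mem_sup_right (show (y - σ (residue C y)) * (z - σ (residue C z)) ∈ n ^ 2 by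
      rw [sq]; exact Ideal.mul_mem_mul (hy y) (hy z)))
    have e : (y - σ (residue C y)) * (z - σ (residue C z)) = y * z - σ (residue C y) * z
        - σ (residue C z) * y + σ (residue C y) * (σ (residue C z) * 1) := by ring
    rw [e, map_add, map_sub, map_sub, hlσ, hlσ, hlσ, hlσ, hl1] at h0
    linear_combination h0
  let Φ : C →ₐ[k] DualNumber F :=
    { toFun := fun y => TrivSqZeroExt.inl (residue C y) + TrivSqZeroExt.inr (lam y)
      map_one' := by simp [hl1]
      map_zero' := by simp
      map_add' := fun y z => by ext <;> simp <;> ring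
      map_mul' := fun y z => by
        ext
        · simp
        · simp [hmul]; ring
      commutes' := fun a => by
        have h : algebraMap k C a = σ (algebraMap k F a) * 1 := by rw [AlgHom.commutes, mul_one]
        have h1 : residue C (algebraMap k C a) = algebraMap k F a := rfl
        have h2 : lam (algebraMap k C a) = 0 := by rw [h, hlσ, hl1, mul_zero]
        show TrivSqZeroExt.inl _ + TrivSqZeroExt.inr _ = _
        rw [h1, h2, TrivSqZeroExt.inr_zero, add_zero]
        rfl }
  let J : Ideal (Polynomial F) := Ideal.span {(Polynomial.X : Polynomial F) ^ (N + 2)}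
  let G := Polynomial F ⧸ J
  let ε : Polynomial F →ₐ[F] DualNumber F := Polynomial.aeval (DualNumber.eps : DualNumber F)
  have heps : (DualNumber.eps : DualNumber F) ^ 2 = 0 := by rw [sq]; exact DualNumber.eps_mul_eps
  have hJ : ∀ q ∈ J, ε q = 0 := by
    intro q hq
    obtain ⟨w, rfl⟩ := Ideal.mem_span_singleton'.mp hq
    rw [map_mul, map_pow, Polynomial.aeval_X, pow_add, heps, mul_zero, mul_zero]
  let g : G →ₐ[k] DualNumber F := (Ideal.Quotient.liftₐ J ε hJ).restrictScalars k
  have hgs : Function.Surjective g := fun d => by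
    refine ⟨Ideal.Quotient.mk J (Polynomial.C d.fst + Polynomial.C d.snd * Polynomial.X), ?_⟩
    show ε _ = d
    ext <;> simp [ε, TrivSqZeroExt.algebraMap_eq_inl]
  let X' : G := Ideal.Quotient.mk J Polynomial.X
  have hgk : ∀ z : G, g z = 0 → ∃ w, z = w * X' := by
    intro z hz
    obtain ⟨q, rfl⟩ := Ideal.Quotient.mk_surjective z
    have h : ε q = 0 := hz
    have h0 : q.coeff 0 = 0 := by
      have := congrArg TrivSqZeroExt.fst h
      rw [← Polynomial.divX_mul_X_add q] at this
      simpa [ε, TrivSqZeroExt.algebraMap_eq_inl] using this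
    refine ⟨Ideal.Quotient.mk J q.divX, ?_⟩
    conv_lhs => rw [← Polynomial.divX_mul_X_add q, h0, map_zero, add_zero, map_mul]
  have hnil : IsNilpotent (RingHom.ker g) := by
    refine ⟨N + 2, le_bot_iff.mp ?_⟩
    have hle : RingHom.ker g ≤ Ideal.span {X'} := fun z hz => by
      obtain ⟨w, rfl⟩ := hgk z hz
      exact Ideal.mul_mem_left _ _ (Ideal.subset_span rfl)
    refine (Ideal.pow_right_mono hle _).trans ?_
    rw [Ideal.span_singleton_pow, ← map_pow,
      show Ideal.Quotient.mk J (Polynomial.X ^ (N + 2)) = 0 from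
        Ideal.Quotient.eq_zero_iff_mem.mpr (Ideal.subset_span rfl),
      Ideal.span_singleton_zero]
  let L : C →ₐ[k] G := Algebra.FormallySmooth.liftOfSurjective Φ g hgs hnil
  have hL : g (L x) = Φ x := Algebra.FormallySmooth.liftOfSurjective_apply Φ g hgs hnil x
  obtain ⟨q, hq⟩ := Ideal.Quotient.mk_surjective (L x)
  rw [← hq] at hL
  have hrx : residue C x = 0 := (residue_eq_zero_iff _).mpr hxn
  have hq' : ε q = Φ x := hL
  have h0 : q.coeff 0 = 0 := by
    have := congrArg TrivSqZeroExt.fst hq'
    rw [← Polynomial.divX_mul_X_add q] at this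
    simpa [ε, Φ, hrx, TrivSqZeroExt.algebraMap_eq_inl] using this
  have h1 : q.coeff 1 = lam x := by
    have := congrArg TrivSqZeroExt.snd hq'
    rw [← Polynomial.divX_mul_X_add q, ← Polynomial.divX_mul_X_add q.divX, h0] at this
    simpa [ε, Φ, hrx, TrivSqZeroExt.algebraMap_eq_inl, Polynomial.coeff_divX] using this
  have hxN : x ^ (N + 1) = 0 := by
    have := Ideal.pow_mem_pow hxn N
    rw [hN, Ideal.zero_eq_bot, Ideal.mem_bot] at this
    rw [pow_succ, this, zero_mul]
  have hqJ : q ^ (N + 1) ∈ J := by
    rw [← Ideal.Quotient.eq_zero_iff_mem, map_pow, hq, ← map_pow, hxN, map_zero]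
  rw [Ideal.mem_span_singleton, ← Polynomial.divX_mul_X_add q, h0, map_zero, add_zero, mul_pow,
    show N + 2 = 1 + (N + 1) by ring, pow_add, pow_one,
    mul_dvd_mul_iff_right (pow_ne_zero _ Polynomial.X_ne_zero), Polynomial.X_dvd_iff,
    Polynomial.coeff_zero_eq_eval_zero, Polynomial.eval_pow, ← Polynomial.coeff_zero_eq_eval_zero,
    Polynomial.coeff_divX] at hqJ
  exact hlx (h1 ▸ (pow_eq_zero_iff (Nat.succ_ne_zero N)).mp hqJ)

theorem isField (k : Type u) [Field k] (C : Type v) [CommRing C]
    [IsLocalRing C] [IsArtinianRing C] [Algebra k C] [Algebra.FormallySmooth k C] : IsField C := by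
  obtain ⟨p, hp⟩ := CharP.exists k
  rcases CharP.char_is_prime_or_zero k p with hpp | hp0
  · have := Fact.mk hpp
    letI : Algebra (ZMod p) k := ZMod.algebra k p
    letI : Algebra (ZMod p) C := ((algebraMap k C).comp (algebraMap (ZMod p) k)).toAlgebra
    haveI : IsScalarTower (ZMod p) k C := IsScalarTower.of_algebraMap_eq fun _ => rfl
    haveI := CoeffField.formallySmooth_of_perfectField (ZMod p) k
    haveI := Algebra.FormallySmooth.comp (ZMod p) k C
    exact isField_of_perfectField (ZMod p) C
  · subst hp0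
    have := CharP.charP_to_charZero k
    letI : Algebra ℚ C := ((algebraMap k C).comp (algebraMap ℚ k)).toAlgebra
    haveI : IsScalarTower ℚ k C := IsScalarTower.of_algebraMap_eq fun _ => rfl
    haveI := CoeffField.formallySmooth_of_perfectField ℚ k
    haveI := Algebra.FormallySmooth.comp ℚ k C
    exact isField_of_perfectField ℚ C

/-- Flat formally smooth maps of Artinian local rings preserve the length. -/
theorem length_eq (A : Type u) (B : Type v) [CommRing A] [CommRing B] [IsLocalRing A] [IsLocalRing B]
    [IsArtinianRing A] [IsArtinianRing B] [Algebra A B] [Module.Flat A B] [Algebra.FormallySmooth A B] :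
    Module.length A A = Module.length B B := by
  haveI : IsLocalHom (algebraMap A B) := ⟨fun a ha => by
    by_contra h
    obtain ⟨N, hN⟩ : IsNilpotent (maximalIdeal A) := by
      have := IsArtinianRing.isNilpotent_jacobson_bot (R := A)
      rwa [IsLocalRing.jacobson_eq_maximalIdeal _ bot_ne_top] at this
    have hz : a ^ N = 0 := by
      have := Ideal.pow_mem_pow ((mem_maximalIdeal a).mpr h) N
      rwa [hN, Ideal.zero_eq_bot, Ideal.mem_bot] at this
    exact not_isUnit_zero ((map_zero (algebraMap A B)) ▸ hz ▸ (map_pow (algebraMap A B) a N).symm ▸ ha.pow N)⟩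
  let I := (maximalIdeal A).map (algebraMap A B)
  have hI : I ≠ ⊤ := ne_top_of_le_ne_top (maximalIdeal.isMaximal B).ne_top (map_maximalIdeal_le _)
  haveI : Nontrivial (B ⧸ I) := Ideal.Quotient.nontrivial_iff.mpr hI
  haveI : IsLocalRing (B ⧸ I) := IsLocalRing.of_surjective' (Ideal.Quotient.mk I) Ideal.Quotient.mk_surjective
  haveI : IsArtinianRing (B ⧸ I) := inferInstance
  letI : Field (A ⧸ maximalIdeal A) := Ideal.Quotient.field _
  haveI : Algebra.FormallySmooth (A ⧸ maximalIdeal A) (B ⧸ I) :=
    Algebra.FormallySmooth.of_equiv (Algebra.TensorProduct.quotIdealMapEquivQuotTensor B (maximalIdeal A)).symm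
  have hF : IsField (B ⧸ I) := isField (A ⧸ maximalIdeal A) (B ⧸ I)
  have hmax : I.IsMaximal := Ideal.Quotient.maximal_of_isField I hF
  have key := IsLocalRing.length_baseChange A B A
  rw [(TensorProduct.AlgebraTensorModule.rid A B B).length_eq, show Module.length B (B ⧸ I) = 1 from
    Module.length_eq_one_iff.mpr (isSimpleModule_iff_isCoatom.mpr (Ideal.isMaximal_def.mp hmax)), mul_one] at key
  exact key.symm

end Groth.Agent.ArtSmooth
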